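import Groth.Agent.H1RectCons.FreeBC
import Groth.Agent.FlatLoc6.GenFlat
import Groth.Agent.S2396
import Mathlib

/-!
# Constructibility of the loci of bounded projective dimension in the fibres
-/

universe u

set_option backward.isDefEq.respectTransparency false
set_option backward.isDefEq.respectTransparency.types false
set_option linter.style.haveILetI false
set_option maxHeartbeats 2000000
set_option synthInstance.maxHeartbeats 200000

open IsLocalRing TensorProduct Topology
open Groth.Agent.RegLoc6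

namespace Groth.Agent.H1RectCons

/-- The points whose fibre module has projective dimension at most `e`. -/
def W (A : Type u) {B : Type u} [CommRing A] [CommRing B] [Algebra A B] (M : Type u) [AddCommGroup M] [Module B M]
    (e : ℕ) : Set (PrimeSpectrum B) :=
  {q | PdLE (EGA4.FibLocRing A B q.asIdeal) e (EGA4.FibLocRing A B q.asIdeal ⊗[B] M)}

theorem mem_W_congr {A B : Type u} [CommRing A] [CommRing B] [Algebra A B] {M N : Type u} [AddCommGroup M]
    [Module B M] [AddCommGroup N] [Module B N] (ε : M ≃ₗ[B] N) (e : ℕ) (q : PrimeSpectrum B) :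
    q ∈ W A M e ↔ q ∈ W A N e :=
  ⟨fun h => pdLE_of_equiv (LinearEquiv.baseChange _ _ _ _ ε) h,
    fun h => pdLE_of_equiv (LinearEquiv.baseChange _ _ _ _ ε.symm) h⟩

theorem isDiv_residueField {A : Type u} [CommRing A] (p : Ideal A) [p.IsPrime] : IsDiv A p.ResidueField := by
  intro x
  obtain ⟨x, rfl⟩ := IsLocalRing.residue_surjective x
  obtain ⟨⟨a, s⟩, rfl⟩ := IsLocalization.mk'_surjective p.primeCompl x
  refine ⟨a, s, isUnit_iff_ne_zero.2 fun h => s.2 (Ideal.algebraMap_residueField_eq_zero.1 h), ?_⟩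
  rw [IsScalarTower.algebraMap_apply A (Localization.AtPrime p) p.ResidueField,
    IsScalarTower.algebraMap_apply A (Localization.AtPrime p) p.ResidueField, IsLocalRing.ResidueField.algebraMap_eq,
    ← map_mul, mul_comm, IsLocalization.mk'_spec]

theorem isDiv_away {A Ā A₁ : Type u} [CommRing A] [CommRing Ā] [CommRing A₁] [Algebra A Ā] [Algebra A A₁]
    [Algebra Ā A₁] [IsScalarTower A Ā A₁] (hsurj : Function.Surjective (algebraMap A Ā)) (f : Ā)
    [IsLocalization.Away f A₁] : IsDiv A A₁ := by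
  intro x
  obtain ⟨⟨r, s⟩, hx⟩ := IsLocalization.surj (Submonoid.powers f) x
  obtain ⟨a, rfl⟩ := hsurj r
  obtain ⟨t, ht⟩ := hsurj s
  refine ⟨a, t, ?_, ?_⟩
  · rw [IsScalarTower.algebraMap_apply A Ā A₁, ht]
    exact IsLocalization.map_units A₁ s
  · rw [IsScalarTower.algebraMap_apply A Ā A₁, IsScalarTower.algebraMap_apply A Ā A₁, ht, mul_comm]
    exact hx

section Immersion

variable {A A' B B' : Type u} [CommRing A] [CommRing A'] [CommRing B] [CommRing B'] [Algebra A A'] [Algebra A B]
  [Algebra A' B'] [Algebra B B'] [Algebra A B'] [IsScalarTower A B B'] [IsScalarTower A A' B']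
  [Algebra.IsPushout A A' B B']

theorem mem_W_transfer (hdiv : IsDiv A A') (M : Type u) [AddCommGroup M] [Module B M] (e : ℕ) (q' : PrimeSpectrum B') :
    PrimeSpectrum.comap (algebraMap B B') q' ∈ W A M e ↔ q' ∈ W A' (B' ⊗[B] M) e :=
  pdLE_transfer hdiv q'.asIdeal e M

omit [Algebra A' B'] [IsScalarTower A A' B'] [Algebra A B'] [IsScalarTower A B B'] [Algebra.IsPushout A A' B B'] in
theorem exists_residue_hom (hdiv : IsDiv A A') (q : Ideal B) [q.IsPrime]
    (hker : RingHom.ker (algebraMap A A') ≤ q.comap (algebraMap A B))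
    (hu : ∀ s : A, IsUnit (algebraMap A A' s) → algebraMap A B s ∉ q) :
    Nonempty (A' →ₐ[A] q.ResidueField) := by
  have hne : ∀ s : A, IsUnit (algebraMap A A' s) → algebraMap A q.ResidueField s ≠ 0 := fun s hs h => by
    rw [IsScalarTower.algebraMap_apply A B q.ResidueField] at h
    exact hu s hs (Ideal.algebraMap_residueField_eq_zero.1 h)
  choose na ds hds heq using hdiv
  let g : A' → q.ResidueField := fun x => algebraMap A _ (na x) / algebraMap A _ (ds x)
  have hg : ∀ x a s, IsUnit (algebraMap A A' s) → algebraMap A A' s * x = algebraMap A A' a →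
      g x = algebraMap A _ a / algebraMap A _ s := by
    intro x a s hsu e
    rw [div_eq_div_iff (hne _ (hds x)) (hne _ hsu), ← map_mul, ← map_mul, ← sub_eq_zero, ← map_sub,
      IsScalarTower.algebraMap_apply A B q.ResidueField, Ideal.algebraMap_residueField_eq_zero]
    refine hker (?_ : algebraMap A A' (na x * s - a * ds x) = 0)
    rw [map_sub, map_mul, map_mul, ← e, ← heq x]
    ring
  refine ⟨{ toFun := g, map_one' := ?_, map_zero' := ?_, map_mul' := ?_, map_add' := ?_, commutes' := ?_ }⟩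
  · rw [hg 1 1 1 (by simp) (by simp)]; simp
  · intro x y
    rw [hg (x * y) (na x * na y) (ds x * ds y) (by rw [map_mul]; exact (hds x).mul (hds y))
      (by rw [map_mul, map_mul, ← heq x, ← heq y]; ring), map_mul, map_mul]
    exact (div_mul_div_comm _ _ _ _).symm
  · rw [hg 0 0 1 (by simp) (by simp)]; simp
  · intro x y
    rw [hg (x + y) (na x * ds y + ds x * na y) (ds x * ds y) (by rw [map_mul]; exact (hds x).mul (hds y))
      (by rw [map_mul, map_add, map_mul, map_mul, ← heq x, ← heq y]; ring), map_mul, map_add, map_mul, map_mul]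
    exact (div_add_div _ _ (hne _ (hds x)) (hne _ (hds y))).symm
  · intro a
    rw [hg _ a 1 (by simp) (by simp)]; simp

variable (B') in
/-- The image of the spectrum under an immersion of the base. -/
theorem exists_point_over (hdiv : IsDiv A A') (q : PrimeSpectrum B)
    (hker : RingHom.ker (algebraMap A A') ≤ q.asIdeal.comap (algebraMap A B))
    (hu : ∀ s : A, IsUnit (algebraMap A A' s) → algebraMap A B s ∉ q.asIdeal) :
    ∃ q' : PrimeSpectrum B', PrimeSpectrum.comap (algebraMap B B') q' = q := by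
  obtain ⟨g⟩ := exists_residue_hom hdiv q.asIdeal hker hu
  let h : B' →ₐ[A] q.asIdeal.ResidueField :=
    Algebra.pushoutDesc B' g (IsScalarTower.toAlgHom A B q.asIdeal.ResidueField) fun _ _ => mul_comm _ _
  refine ⟨⟨RingHom.ker h.toRingHom, RingHom.ker_isPrime _⟩, PrimeSpectrum.ext (Ideal.ext fun b => ?_)⟩
  show h (algebraMap B B' b) = 0 ↔ b ∈ q.asIdeal
  rw [Algebra.pushoutDesc_right]
  exact Ideal.algebraMap_residueField_eq_zero

/-- Open sets of the spectrum of the base change come from open sets. -/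
theorem exists_open_eq_preimage (hdiv : IsDiv A A') {U : Set (PrimeSpectrum B')} (hU : IsOpen U) :
    ∃ O : Set (PrimeSpectrum B), IsOpen O ∧ PrimeSpectrum.comap (algebraMap B B') ⁻¹' O = U := by
  obtain ⟨s, hs⟩ := (PrimeSpectrum.isClosed_iff_zeroLocus (Uᶜ)).1 hU.isClosed_compl
  refine ⟨(PrimeSpectrum.zeroLocus {b : B | ∀ q' ∈ Uᶜ, algebraMap B B' b ∈ q'.asIdeal})ᶜ,
    (PrimeSpectrum.isClosed_zeroLocus _).isOpen_compl, Set.ext fun q' => ?_⟩
  rw [Set.mem_preimage, Set.mem_compl_iff, PrimeSpectrum.mem_zeroLocus]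
  constructor
  · intro h
    by_contra hq
    exact h fun b hb => hb q' hq
  · intro hq h
    refine absurd hq (show q' ∈ Uᶜ from ?_)
    rw [hs]
    intro y hy
    obtain ⟨b, t, ht, e⟩ := isDiv_pushout (B := B) hdiv y
    have hb : b ∈ {b : B | ∀ q'' ∈ Uᶜ, algebraMap B B' b ∈ q''.asIdeal} := fun q'' hq'' => by
      rw [hs] at hq''
      exact e ▸ q''.asIdeal.mul_mem_left _ (hq'' hy)
    have h1 : algebraMap A B' t * y ∈ q'.asIdeal := e.symm ▸ h hb
    refine (q'.2.mem_or_mem h1).resolve_left fun h2 => q'.2.ne_top (Ideal.eq_top_of_isUnit_mem _ h2 ?_)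
    rw [IsScalarTower.algebraMap_apply A A' B']
    exact ht.map _

end Immersion

theorem isNowhereDense_of_disjoint_open {Y : Type*} [TopologicalSpace Y] [PreirreducibleSpace Y] {s U : Set Y}
    (hU : IsOpen U) (hne : U.Nonempty) (hd : ∀ y ∈ s, y ∉ U) : IsNowhereDense s := by
  have h1 : closure s ⊆ Uᶜ := closure_minimal hd hU.isClosed_compl
  show interior (closure s) = ∅
  by_contra h
  obtain ⟨y, hy1, hy2⟩ := nonempty_preirreducible_inter hU isOpen_interior hne (Set.nonempty_iff_ne_empty.2 h)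
  exact h1 (interior_subset hy2) hy1

/-- The loci are constructible over a Noetherian base. -/
theorem isConstructible_W {A B : Type u} [CommRing A] [IsNoetherianRing A] [CommRing B] [Algebra A B]
    [Algebra.FiniteType A B] [Module.Flat A B] (M : Type u) [AddCommGroup M] [Module B M] [Module.Finite B M]
    (e : ℕ) : IsConstructible (W (B := B) A M e) := by
  haveI : IsNoetherianRing B := Algebra.FiniteType.isNoetherianRing A B
  haveI : Algebra.FinitePresentation A B := Algebra.FinitePresentation.of_finiteType.1 ‹_›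
  letI : Module A M := Module.compHom M (algebraMap A B)
  haveI : IsScalarTower A B M := IsScalarTower.of_algebraMap_smul fun _ _ => rfl
  refine (S2396.result _).2 fun Y hY hirr => ?_
  let q := hirr.genericPoint
  have hgen : IsGenericPoint q Y := hirr.isGenericPoint_genericPoint hY
  let p := q.asIdeal.comap (algebraMap A B)
  let Ā := A ⧸ p
  letI : Algebra B (Ā ⊗[A] B) := Algebra.TensorProduct.rightAlgebra
  let N := (Ā ⊗[A] B) ⊗[B] M
  obtain ⟨f, hf0, hgf⟩ := GenFree.exists_gfree (R := Ā) (M := N) (Ā ⊗[A] B)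
  let A₁ := Localization.Away f
  let B₁ := A₁ ⊗[A] B
  letI : Algebra B B₁ := Algebra.TensorProduct.rightAlgebra
  have hdiv : IsDiv A A₁ := isDiv_away (Ā := Ā) Ideal.Quotient.mk_surjective f
  haveI : Module.Flat Ā (A₁ ⊗[Ā] N) :=
    FlatLoc6.flat_of_gfree (S := Ā) (Submonoid.powers f) (TensorProduct.mk Ā A₁ N 1) (Submonoid.mem_powers f) hgf
  haveI : Module.Flat A₁ (A₁ ⊗[Ā] N) := (Module.flat_iff_of_isLocalization A₁ (Submonoid.powers f) _).2 ‹_›
  haveI : Module.Flat A₁ (B₁ ⊗[B] M) := Module.Flat.of_linearEquiv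
    ((Algebra.IsPushout.cancelBaseChange A A₁ B B₁ M).trans
      ((AlgebraTensorModule.cancelBaseChange A Ā A₁ A₁ M).symm.trans
        (LinearEquiv.baseChange Ā A₁ _ _ (Algebra.IsPushout.cancelBaseChange A Ā B (Ā ⊗[A] B) M).symm)))
  haveI : Module.FinitePresentation B M := Module.finitePresentation_of_finite B M
  haveI : Algebra.FinitePresentation A₁ B₁ := inferInstance
  haveI : Module.Flat A₁ B₁ := inferInstance
  have hU : IsOpen (W (B := B₁) A₁ (B₁ ⊗[B] M) e) := Codepth5.isOpen_pdLE e (B₁ ⊗[B] M)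
  obtain ⟨O, hO, hOU⟩ := exists_open_eq_preimage (B := B) hdiv hU
  obtain ⟨fa, hfa⟩ := Ideal.Quotient.mk_surjective f
  have hfq : algebraMap A B fa ∉ q.asIdeal := fun h => hf0 (by
    rw [← hfa, Ideal.Quotient.eq_zero_iff_mem]; exact h)
  let D : Set (PrimeSpectrum B) := PrimeSpectrum.basicOpen (algebraMap A B fa)
  have hpt : ∀ y ∈ Y ∩ D, ∃ y' : PrimeSpectrum B₁, PrimeSpectrum.comap (algebraMap B B₁) y' = y := by
    rintro y ⟨hy, hyD⟩
    have hle : p ≤ y.asIdeal.comap (algebraMap A B) :=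
      Ideal.comap_mono ((PrimeSpectrum.le_iff_specializes q y).2 (hgen.specializes hy))
    refine exists_point_over B₁ hdiv y (fun a ha => ?_) fun s hs hsy => ?_
    · rw [RingHom.mem_ker, IsScalarTower.algebraMap_apply A Ā A₁,
        IsLocalization.map_eq_zero_iff (Submonoid.powers f) A₁] at ha
      obtain ⟨⟨_, n, rfl⟩, hn⟩ := ha
      have h1 : fa ^ n * a ∈ p := by
        rw [← Ideal.Quotient.eq_zero_iff_mem, map_mul, map_pow, hfa]
        exact hn
      have h2 := hle h1
      exact ((Ideal.IsPrime.mem_or_mem (I := y.asIdeal.comap (algebraMap A B)) inferInstance h2).resolve_left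
        fun h3 => hyD (Ideal.IsPrime.mem_of_pow_mem (I := y.asIdeal.comap (algebraMap A B)) inferInstance n h3))
    · obtain ⟨⟨_, n, rfl⟩, a, ha⟩ : ∃ (m : Submonoid.powers f) (a : Ā), a * algebraMap A Ā s = m := by
        rw [IsScalarTower.algebraMap_apply A Ā A₁, IsLocalization.algebraMap_isUnit_iff (Submonoid.powers f)] at hs
        obtain ⟨c, hc, a, ha⟩ := hs
        exact ⟨⟨c, hc⟩, a, ((mul_comm _ _).trans ha.symm :)⟩
      obtain ⟨a, rfl⟩ := Ideal.Quotient.mk_surjective a
      have h1 : a * s - fa ^ n ∈ p := by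
        rw [← Ideal.Quotient.eq_zero_iff_mem, map_sub, map_mul, map_pow, hfa, sub_eq_zero]
        exact ha
      refine hyD (Ideal.IsPrime.mem_of_pow_mem (I := y.asIdeal.comap (algebraMap A B)) inferInstance n ?_)
      have := sub_mem (Ideal.mul_mem_left (y.asIdeal.comap (algebraMap A B)) a hsy) (hle h1)
      rwa [sub_sub_cancel] at this
  have hkey : ∀ y ∈ Y ∩ D, y ∈ W (B := B) A M e ↔ y ∈ O := fun y hy => by
    obtain ⟨y', rfl⟩ := hpt y hy
    rw [mem_W_transfer hdiv M e y', ← hOU, Set.mem_preimage]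
  have hD : IsOpen D := (PrimeSpectrum.basicOpen _).2
  have hqD : q ∈ Y ∩ D := ⟨hgen.mem, hfq⟩
  by_cases hqO : q ∈ O
  · exact Or.inr ⟨O ∩ D, hO.inter hD, ⟨q, ⟨hqO, hfq⟩, hgen.mem⟩, fun y hy => (hkey y ⟨hy.2, hy.1.2⟩).2 hy.1.1⟩
  · refine Or.inl ?_
    have hmiss : ∀ y ∈ Y ∩ D, y ∉ W (B := B) A M e := fun y hy h =>
      hqO ((hgen.specializes hy.1).mem_open hO ((hkey y hy).1 h))
    haveI : PreirreducibleSpace Y := Subtype.preirreducibleSpace hirr.isPreirreducible
    refine isNowhereDense_of_disjoint_open (U := Subtype.val ⁻¹' D) (hD.preimage continuous_subtype_val)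
      ⟨⟨q, hgen.mem⟩, hfq⟩ fun y hy hyD => hmiss y.1 ⟨y.2, hyD⟩ hy

end Groth.Agent.H1RectCons
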