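import Groth.Agent.Codepth5.SkPoly
import Groth.Agent.RegLoc6.Descent
import Groth.Agent.FlatLoc6.FiberRing
import Mathlib

/-!
# Local rings of fibres under base change by an immersion
-/

universe u

set_option backward.isDefEq.respectTransparency false
set_option backward.isDefEq.respectTransparency.types false
set_option linter.style.haveILetI false
set_option maxHeartbeats 1000000

open IsLocalRing TensorProduct
open Groth.Agent.RegLoc6

namespace Groth.Agent.H1RectCons

/-- Projective dimension only drops under flat base change. -/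
theorem pdLE_baseChange {R R' : Type u} [CommRing R] [CommRing R'] [Algebra R R'] [Module.Flat R R'] :
    ∀ (n : ℕ) (N : Type u) [AddCommGroup N] [Module R N], PdLE R n N → PdLE R' n (R' ⊗[R] N) := by
  intro n
  induction n with
  | zero =>
    intro N _ _ h
    haveI : Module.Projective R N := pdLE_zero_iff.1 h
    exact pdLE_zero_iff.2 inferInstance
  | succ n ih =>
    intro N _ _ h
    let g := Finsupp.linearCombination R (id : N → N)
    have hg : Function.Surjective g := Finsupp.linearCombination_id_surjective R N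
    exact (pdLE_succ_iff (AlgebraTensorModule.lTensor R' R' g) fun y => LinearMap.lTensor_surjective R' hg y).2
      (pdLE_of_equiv (LinearMap.tensorKerEquiv R' R' g) (ih _ ((pdLE_succ_iff g hg).1 h)))

/-- Projective dimension of a base change is invariant under isomorphisms. -/
theorem pdLE_congr_of_algEquiv {B R R' : Type u} [CommRing B] [CommRing R] [CommRing R'] [Algebra B R] [Algebra B R']
    (e : R ≃ₐ[B] R') (n : ℕ) (M : Type u) [AddCommGroup M] [Module B M] (h : PdLE R n (R ⊗[B] M)) :
    PdLE R' n (R' ⊗[B] M) := by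
  letI : Algebra R R' := e.toAlgHom.toRingHom.toAlgebra
  haveI : IsScalarTower B R R' := IsScalarTower.of_algebraMap_eq fun b => (e.commutes b).symm
  haveI : Module.Flat R R' := RingHom.Flat.of_bijective (f := e.toAlgHom.toRingHom) e.bijective
  exact pdLE_of_equiv (AlgebraTensorModule.cancelBaseChange B R R' R' M) (pdLE_baseChange n _ h)

variable {A A' B B' : Type u} [CommRing A] [CommRing A'] [CommRing B] [CommRing B'] [Algebra A A'] [Algebra A B]
  [Algebra A' B'] [Algebra B B'] [Algebra A B'] [IsScalarTower A B B'] [IsScalarTower A A' B']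
  [Algebra.IsPushout A A' B B']

variable (A A') in
/-- Every element becomes the image of one of `A` after multiplication by an inverted element of `A`. -/
def IsDiv : Prop := ∀ x : A', ∃ a s : A, IsUnit (algebraMap A A' s) ∧ algebraMap A A' s * x = algebraMap A A' a

theorem isDiv_pushout (hdiv : IsDiv A A') (y : B') :
    ∃ (b : B) (s : A), IsUnit (algebraMap A A' s) ∧ algebraMap A B' s * y = algebraMap B B' b := by
  refine (Algebra.IsPushout.out (R := A) (S := A') (R' := B) (S' := B')).inductionOn y _ ?_ ?_ ?_ ?_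
  · exact ⟨0, 1, by simp, by simp⟩
  · exact fun b => ⟨b, 1, by simp, by simp⟩
  · rintro x y ⟨b, s, hs, e⟩
    obtain ⟨a, t, ht, et⟩ := hdiv x
    refine ⟨algebraMap A B a * b, t * s, by rw [map_mul]; exact ht.mul hs, ?_⟩
    have et' : algebraMap A B' t * algebraMap A' B' x = algebraMap A B' a := by
      rw [IsScalarTower.algebraMap_apply A A' B', IsScalarTower.algebraMap_apply A A' B', ← map_mul, et]
    rw [Algebra.smul_def, map_mul, map_mul, ← IsScalarTower.algebraMap_apply, ← e, ← et']
    ring
  · rintro y z ⟨b, s, hs, e⟩ ⟨c, t, ht, e'⟩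
    refine ⟨algebraMap A B t * b + algebraMap A B s * c, s * t, by rw [map_mul]; exact hs.mul ht, ?_⟩
    rw [map_mul, map_add, map_mul, map_mul, ← IsScalarTower.algebraMap_apply, ← IsScalarTower.algebraMap_apply, ← e, ← e']
    ring

theorem exists_fibLocRing_equiv (hdiv : IsDiv A A') (q' : Ideal B') [q'.IsPrime] :
    Nonempty (EGA4.FibLocRing A B (q'.comap (algebraMap B B')) ≃ₐ[B] EGA4.FibLocRing A' B' q') := by
  let q := q'.comap (algebraMap B B')
  let p := q.comap (algebraMap A B)
  let p' := q'.comap (algebraMap A' B')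
  have hp : p'.comap (algebraMap A A') = p := by
    ext a
    show algebraMap A' B' (algebraMap A A' a) ∈ q' ↔ algebraMap B B' (algebraMap A B a) ∈ q'
    rw [← IsScalarTower.algebraMap_apply, ← IsScalarTower.algebraMap_apply]
  haveI : p'.IsPrime := Ideal.IsPrime.comap _
  have hs : ∀ s : A, IsUnit (algebraMap A A' s) → s ∉ p := fun s hs h =>
    Ideal.IsPrime.ne_top' (I := p') (p'.eq_top_of_isUnit_mem (show algebraMap A A' s ∈ p' from hp.ge h) hs)
  haveI := FlatLoc6.isLocalRing_fibLocRing (A := A) q
  let O := EGA4.FibLocRing A B q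
  let O' := EGA4.FibLocRing A' B' q'
  have hO : ∀ a : A, algebraMap A O a = Ideal.Quotient.mk _ (algebraMap A (Localization.AtPrime q) a) := fun a => rfl
  have hker : ∀ a : A, a ∈ p → algebraMap A O a = 0 := fun a ha => by
    rw [hO, Ideal.Quotient.eq_zero_iff_mem]
    exact Ideal.mem_map_of_mem _ ha
  have hu : ∀ s : A, IsUnit (algebraMap A A' s) → IsUnit (algebraMap A O s) := fun s h => by
    rw [hO, IsScalarTower.algebraMap_apply A B (Localization.AtPrime q)]
    exact (IsLocalization.map_units (Localization.AtPrime q)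
      (⟨algebraMap A B s, hs s h⟩ : q.primeCompl)).map (Ideal.Quotient.mk _)
  -- the map out of `A'`
  choose na ds hds heq using hdiv
  have hξ : ∀ x a s, IsUnit (algebraMap A A' s) → algebraMap A A' s * x = algebraMap A A' a →
      algebraMap A O s * (algebraMap A O (na x) * ↑(hu (ds x) (hds x)).unit⁻¹) = algebraMap A O a := by
    intro x a s hsu e
    have h0 : algebraMap A A' (s * na x - a * ds x) = 0 := by
      rw [map_sub, map_mul, map_mul, ← e, ← heq x]; ring
    have h1 := hker _ (hp.le (show algebraMap A A' (s * na x - a * ds x) ∈ p' by rw [h0]; exact zero_mem _))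
    rw [map_sub, map_mul, map_mul, sub_eq_zero] at h1
    rw [← mul_assoc, h1, mul_assoc, IsUnit.mul_val_inv, mul_one]
  let ξf : A' → O := fun x => algebraMap A O (na x) * ↑(hu (ds x) (hds x)).unit⁻¹
  have hcancel : ∀ x z s, IsUnit (algebraMap A A' s) → ∀ a, algebraMap A A' s * x = algebraMap A A' a →
      algebraMap A O s * z = algebraMap A O a → ξf x = z := fun x z s hsu a e e' =>
    (hu s hsu).mul_left_cancel ((hξ x a s hsu e).trans e'.symm)
  let ξ : A' →ₐ[A] O :=
    { toFun := ξf
      map_one' := hcancel 1 1 1 (by simp) 1 (by simp) (by simp)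
      map_zero' := hcancel 0 0 1 (by simp) 0 (by simp) (by simp)
      map_mul' := fun x y => hcancel (x * y) (ξf x * ξf y) (ds x * ds y) (by rw [map_mul]; exact (hds x).mul (hds y))
        (na x * na y) (by rw [map_mul, map_mul, ← heq x, ← heq y]; ring)
        (by rw [map_mul, map_mul, ← hξ x _ _ (hds x) (heq x), ← hξ y _ _ (hds y) (heq y)]; ring)
      map_add' := fun x y => hcancel (x + y) (ξf x + ξf y) (ds x * ds y) (by rw [map_mul]; exact (hds x).mul (hds y))
        (na x * ds y + na y * ds x) (by rw [map_mul, map_add, map_mul, map_mul, ← heq x, ← heq y]; ring)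
        (by rw [map_mul, map_add, map_mul, map_mul, ← hξ x _ _ (hds x) (heq x), ← hξ y _ _ (hds y) (heq y)]; ring)
      commutes' := fun a => hcancel _ _ 1 (by simp) a (by simp) (by simp) }
  -- the map out of `B'`
  let Ψ₀ : B' →ₐ[A] O := Algebra.pushoutDesc B' ξ (IsScalarTower.toAlgHom A B O) fun _ _ => mul_comm _ _
  have hΨB : ∀ b, Ψ₀ (algebraMap B B' b) = algebraMap B O b := fun b => Algebra.pushoutDesc_right _ _ _ _ b
  have hΨu : ∀ y : q'.primeCompl, IsUnit (Ψ₀ y) := by
    rintro ⟨y, hy⟩
    obtain ⟨b, s, hsu, e⟩ := isDiv_pushout (B := B) (fun x => ⟨na x, ds x, hds x, heq x⟩) y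
    have hb : b ∉ q := fun hb => by
      have hb' : algebraMap A B' s * y ∈ q' := e.symm ▸ hb
      rcases Ideal.IsPrime.mem_or_mem ‹_› hb' with h | h
      · exact hs s hsu (show algebraMap B B' (algebraMap A B s) ∈ q' by rwa [← IsScalarTower.algebraMap_apply])
      · exact hy h
    have h1 : IsUnit (algebraMap B O b) :=
      (IsLocalization.map_units (Localization.AtPrime q) (⟨b, hb⟩ : q.primeCompl)).map (Ideal.Quotient.mk _)
    rw [← hΨB, ← e, map_mul, AlgHom.commutes] at h1
    exact isUnit_of_mul_isUnit_right h1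
  let Ψ₁ : Localization.AtPrime q' →ₐ[A] O := IsLocalization.liftAlgHom hΨu
  have hΨ₁ : ∀ y, Ψ₁ (algebraMap B' _ y) = Ψ₀ y := fun y => IsLocalization.lift_eq hΨu y
  have hΨp : (q'.comap (algebraMap A' B')).map (algebraMap A' (Localization.AtPrime q')) ≤ RingHom.ker Ψ₁.toRingHom := by
    refine Ideal.map_le_iff_le_comap.2 fun x hx => ?_
    show Ψ₁ (algebraMap A' (Localization.AtPrime q') x) = 0
    rw [IsScalarTower.algebraMap_apply A' B' (Localization.AtPrime q'), hΨ₁]
    show Algebra.pushoutDesc B' ξ (IsScalarTower.toAlgHom A B O) _ (algebraMap A' B' x) = 0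
    rw [Algebra.pushoutDesc_left]
    show algebraMap A O (na x) * _ = 0
    rw [hker (na x) (hp.le (show algebraMap A A' (na x) ∈ p' by rw [← heq x]; exact p'.mul_mem_left _ hx)), zero_mul]
  let Ψ : O' →+* O := Ideal.Quotient.lift _ Ψ₁.toRingHom fun y hy => hΨp hy
  -- the map out of `O`
  let Φ₁ := Localization.localRingHom q q' (algebraMap B B') rfl
  have hΦp : (q.comap (algebraMap A B)).map (algebraMap A (Localization.AtPrime q)) ≤
      RingHom.ker ((Ideal.Quotient.mk ((q'.comap (algebraMap A' B')).map (algebraMap A' (Localization.AtPrime q')))).comp Φ₁) := by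
    refine Ideal.map_le_iff_le_comap.2 fun a ha => ?_
    show Ideal.Quotient.mk _ (Φ₁ (algebraMap A (Localization.AtPrime q) a)) = 0
    rw [Ideal.Quotient.eq_zero_iff_mem, IsScalarTower.algebraMap_apply A B (Localization.AtPrime q),
      Localization.localRingHom_to_map, ← IsScalarTower.algebraMap_apply A B B',
      IsScalarTower.algebraMap_apply A A' B', ← IsScalarTower.algebraMap_apply A' B' (Localization.AtPrime q')]
    exact Ideal.mem_map_of_mem _ (hp.ge ha)
  let Φ : O →+* O' := Ideal.Quotient.lift _ _ fun y hy => hΦp hy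
  have hΦB : ∀ b, Φ (algebraMap B O b) = algebraMap B O' b := fun b => by
    show Ideal.Quotient.mk _ (Φ₁ (algebraMap B (Localization.AtPrime q) b)) = Ideal.Quotient.mk _ (algebraMap B (Localization.AtPrime q') b)
    rw [Localization.localRingHom_to_map, ← IsScalarTower.algebraMap_apply B B' (Localization.AtPrime q')]
  have hΨB' : ∀ b, Ψ (algebraMap B O' b) = algebraMap B O b := fun b => by
    show Ψ₁ (algebraMap B (Localization.AtPrime q') b) = _
    rw [IsScalarTower.algebraMap_apply B B' (Localization.AtPrime q'), hΨ₁, hΨB]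
  have h1 : ∀ z, Ψ (Φ z) = z := fun z => by
    obtain ⟨z, rfl⟩ := Ideal.Quotient.mk_surjective z
    refine DFunLike.congr_fun (IsLocalization.ringHom_ext (M := q.primeCompl)
      (j := (Ψ.comp Φ).comp (Ideal.Quotient.mk _)) (k := Ideal.Quotient.mk _) (RingHom.ext fun b => ?_)) z
    show Ψ (Φ (algebraMap B O b)) = algebraMap B O b
    rw [hΦB, hΨB']
  have hB' : ∀ y : B', Φ (Ψ (algebraMap B' O' y)) = algebraMap B' O' y := fun y => by
    obtain ⟨b, s, hsu, e⟩ := isDiv_pushout (B := B) (fun x => ⟨na x, ds x, hds x, heq x⟩) y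
    have hsO' : IsUnit (algebraMap B' O' (algebraMap A B' s)) := by
      rw [IsScalarTower.algebraMap_apply A A' B']
      exact (hsu.map (algebraMap A' B')).map _
    have hfix : ∀ c : B, Φ (Ψ (algebraMap B' O' (algebraMap B B' c))) = algebraMap B' O' (algebraMap B B' c) := fun c => by
      rw [← IsScalarTower.algebraMap_apply B B' O', hΨB', hΦB]
    have h := hfix b
    rw [← e, map_mul, map_mul, map_mul,
      show algebraMap A B' s = algebraMap B B' (algebraMap A B s) from IsScalarTower.algebraMap_apply A B B' s,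
      hfix] at h
    rw [show algebraMap A B' s = algebraMap B B' (algebraMap A B s) from IsScalarTower.algebraMap_apply A B B' s] at hsO'
    exact hsO'.mul_left_cancel h
  have h2 : ∀ z, Φ (Ψ z) = z := fun z => by
    obtain ⟨z, rfl⟩ := Ideal.Quotient.mk_surjective z
    refine DFunLike.congr_fun (IsLocalization.ringHom_ext (M := q'.primeCompl)
      (j := (Φ.comp Ψ).comp (Ideal.Quotient.mk _)) (k := Ideal.Quotient.mk _) (RingHom.ext fun y => ?_)) z
    exact hB' y
  exact ⟨AlgEquiv.ofRingEquiv (f := RingEquiv.ofBijective Φ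
    ⟨Function.LeftInverse.injective h1, fun z => ⟨_, h2 z⟩⟩) hΦB⟩

/-- The projective dimension on a fibre is insensitive to base change by an immersion. -/
theorem pdLE_transfer (hdiv : IsDiv A A') (q' : Ideal B') [q'.IsPrime] (e : ℕ)
    (M : Type u) [AddCommGroup M] [Module B M] :
    PdLE (EGA4.FibLocRing A B (q'.comap (algebraMap B B'))) e (EGA4.FibLocRing A B (q'.comap (algebraMap B B')) ⊗[B] M) ↔
      PdLE (EGA4.FibLocRing A' B' q') e (EGA4.FibLocRing A' B' q' ⊗[B'] (B' ⊗[B] M)) := by
  obtain ⟨ε⟩ := exists_fibLocRing_equiv (B := B) hdiv q'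
  exact ⟨fun h => pdLE_of_equiv (AlgebraTensorModule.cancelBaseChange B B' _ _ M).symm
      (pdLE_congr_of_algEquiv ε e M h),
    fun h => pdLE_congr_of_algEquiv ε.symm e M (pdLE_of_equiv (AlgebraTensorModule.cancelBaseChange B B' _ _ M) h)⟩

end Groth.Agent.H1RectCons
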