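import Groth.Agent.H1RectCons.Transfer
import Groth.Agent.W4Lib.Flat
import Groth.Agent.FlatSyz5.Kernel
import Groth.Agent.FlatSyz5.Resolution
import Mathlib

/-!
# The free locus of a flat family under base change
-/

universe u

set_option backward.isDefEq.respectTransparency false
set_option backward.isDefEq.respectTransparency.types false
set_option linter.style.haveILetI false
set_option maxHeartbeats 1000000
set_option synthInstance.maxHeartbeats 100000

open IsLocalRing TensorProduct
open Groth.Agent.RegLoc6

namespace Groth.Agent.H1RectCons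

/-- Injectivity after a two-step base change. -/
theorem injective_lTensor_cancel {R S T : Type u} [CommRing R] [CommRing S] [CommRing T] [Algebra R S] [Algebra S T]
    [Algebra R T] [IsScalarTower R S T] {K F : Type u} [AddCommGroup K] [Module R K] [AddCommGroup F] [Module R F]
    (i : K →ₗ[R] F) :
    Function.Injective ((i.baseChange S).lTensor T) ↔ Function.Injective (i.lTensor T) := by
  let eK := AlgebraTensorModule.cancelBaseChange R S T T K
  let eF := AlgebraTensorModule.cancelBaseChange R S T T F
  have hnat : ∀ z, eF ((i.baseChange S).lTensor T z) = i.lTensor T (eK z) := fun z => by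
    induction z using TensorProduct.induction_on with
    | zero => simp
    | add a b ha hb => simp only [map_add, ha, hb]
    | tmul o w =>
      induction w using TensorProduct.induction_on with
      | zero => simp
      | add a b ha hb => simp only [tmul_add, map_add, ha, hb]
      | tmul l k => simp [eK, eF]
  constructor
  · intro h x y hxy
    obtain ⟨x, rfl⟩ := eK.surjective x
    obtain ⟨y, rfl⟩ := eK.surjective y
    rw [← hnat, ← hnat] at hxy
    rw [h (eF.injective hxy)]
  · intro h x y hxy
    refine eK.injective (h ?_)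
    rw [← hnat, ← hnat, hxy]

/-- Freeness at a point from a presentation. -/
theorem mem_freeLocus_iff_injective {B M K : Type u} [CommRing B] [AddCommGroup M] [Module B M] [AddCommGroup K]
    [Module B K] [Module.Finite B K] {a : ℕ} (i : K →ₗ[B] (Fin a → B)) (π : (Fin a → B) →ₗ[B] M)
    (hi : Function.Injective i) (hex : Function.Exact i π) (hπ : Function.Surjective π) (q : PrimeSpectrum B) :
    q ∈ Module.freeLocus B M ↔ Function.Injective (i.lTensor q.asIdeal.ResidueField) := by
  let L := Localization.AtPrime q.asIdeal
  haveI : Module.Flat B L := IsLocalization.flat L q.asIdeal.primeCompl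
  have hiL : Function.Injective (i.baseChange L) := Module.Flat.lTensor_preserves_injective_linearMap i hi
  have hexL : Function.Exact (i.baseChange L) (π.baseChange L) := lTensor_exact L hex hπ
  have hπL : Function.Surjective (π.baseChange L) := LinearMap.lTensor_surjective L hπ
  rw [Module.mem_freeLocus_iff_tensor q L, ← injective_lTensor_cancel (S := L) (T := q.asIdeal.ResidueField) i]
  refine ⟨fun h => ?_, fun h => ?_⟩
  · haveI := h
    exact W4Lib.lTensor_injective_of_flat_quotient hiL hexL hπL q.asIdeal.ResidueField
  · exact Module.free_of_lTensor_residueField_injective (i.baseChange L) (π.baseChange L) hπL hexL h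

section BaseChange

variable {A₀ A B₀ B : Type u} [CommRing A₀] [CommRing A] [CommRing B₀] [CommRing B] [Algebra A₀ A] [Algebra A₀ B₀]
  [Algebra A B] [Algebra B₀ B] [Algebra A₀ B] [IsScalarTower A₀ B₀ B] [IsScalarTower A₀ A B]
  [Algebra.IsPushout A₀ A B₀ B]

variable (A₀ A) in
include A in
/-- Injectivity is kept by base change when the cokernel is flat over the base. -/
theorem baseChange_injective {K F M : Type u} [AddCommGroup K] [Module B₀ K] [Module A₀ K] [IsScalarTower A₀ B₀ K]
    [AddCommGroup F] [Module B₀ F] [Module A₀ F] [IsScalarTower A₀ B₀ F]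
    [AddCommGroup M] [Module B₀ M] [Module A₀ M] [IsScalarTower A₀ B₀ M] [Module.Flat A₀ M]
    (i : K →ₗ[B₀] F) (π : F →ₗ[B₀] M) (hi : Function.Injective i) (hex : Function.Exact i π)
    (hπ : Function.Surjective π) : Function.Injective (i.baseChange B) := by
  have hA := W4Lib.lTensor_injective_of_flat_quotient (f := i.restrictScalars A₀) (g := π.restrictScalars A₀) hi hex hπ A
  let eK := (Algebra.IsPushout.cancelBaseChange A₀ A B₀ B K).symm
  let eF := (Algebra.IsPushout.cancelBaseChange A₀ A B₀ B F).symm
  have hnat : ∀ z, i.baseChange B (eK z) = eF ((i.restrictScalars A₀).lTensor A z) := fun z => by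
    induction z using TensorProduct.induction_on with
    | zero => simp
    | add a b ha hb => simp only [map_add, ha, hb]
    | tmul a k => simp [eK, eF]
  intro x y hxy
  obtain ⟨x, rfl⟩ := eK.surjective x
  obtain ⟨y, rfl⟩ := eK.surjective y
  rw [hnat, hnat] at hxy
  rw [hA (eF.injective hxy)]

omit [Algebra A B] [IsScalarTower A₀ A B] [Algebra.IsPushout A₀ A B₀ B] in
theorem injective_residue_iff {K F : Type u} [AddCommGroup K] [Module B₀ K] [AddCommGroup F] [Module B₀ F]
    (i : K →ₗ[B₀] F) (q : PrimeSpectrum B) :
    Function.Injective ((i.baseChange B).lTensor q.asIdeal.ResidueField) ↔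
      Function.Injective (i.lTensor (PrimeSpectrum.comap (algebraMap B₀ B) q).asIdeal.ResidueField) := by
  let k₀ := (PrimeSpectrum.comap (algebraMap B₀ B) q).asIdeal.ResidueField
  letI : Algebra k₀ q.asIdeal.ResidueField :=
    (Ideal.ResidueField.map (PrimeSpectrum.comap (algebraMap B₀ B) q).asIdeal q.asIdeal (algebraMap B₀ B) rfl).toAlgebra
  haveI : IsScalarTower B₀ k₀ q.asIdeal.ResidueField := IsScalarTower.of_algebraMap_eq fun b => by
    rw [RingHom.algebraMap_toAlgebra, Ideal.ResidueField.map_algebraMap]
    rw [← IsScalarTower.algebraMap_apply]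
  haveI : Module.Free k₀ q.asIdeal.ResidueField := Module.Free.of_divisionRing _ _
  haveI : Module.FaithfullyFlat k₀ q.asIdeal.ResidueField := @Module.FaithfullyFlat.instOfNontrivialOfFree _ _ _ _ _ _ _
  rw [injective_lTensor_cancel, ← injective_lTensor_cancel (S := k₀) (T := q.asIdeal.ResidueField) i]
  exact Module.FaithfullyFlat.lTensor_injective_iff_injective k₀ q.asIdeal.ResidueField (i.baseChange k₀)

variable (A₀ A) in
include A in
/-- The free locus commutes with base change of a flat family. -/
theorem freeLocus_baseChange [Algebra.FinitePresentation A₀ B₀] [Module.Flat A₀ B₀] {M : Type u} [AddCommGroup M] [Module B₀ M]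
    [Module A₀ M] [IsScalarTower A₀ B₀ M] [Module.FinitePresentation B₀ M] [Module.Flat A₀ M] (q : PrimeSpectrum B) :
    q ∈ Module.freeLocus B (B ⊗[B₀] M) ↔ PrimeSpectrum.comap (algebraMap B₀ B) q ∈ Module.freeLocus B₀ M := by
  obtain ⟨a, π, hπ⟩ := Module.Finite.exists_fin' B₀ M
  haveI := FlatSyz5.fp_ker (A := A₀) π hπ
  let i := (LinearMap.ker π).subtype
  have hex : Function.Exact i π := LinearMap.exact_subtype_ker_map π
  have hinj : Function.Injective (i.baseChange B) := baseChange_injective A₀ A i π Subtype.val_injective hex hπ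
  rw [mem_freeLocus_iff_injective i π Subtype.val_injective hex hπ, ← injective_residue_iff (B := B) i q]
  let e := TensorProduct.piScalarRight B₀ B B (Fin a)
  rw [mem_freeLocus_iff_injective (e.toLinearMap ∘ₗ i.baseChange B) (π.baseChange B ∘ₗ e.symm.toLinearMap)
    (e.injective.comp hinj) ?_ ((LinearMap.lTensor_surjective B hπ).comp e.symm.surjective)]
  · rw [LinearMap.lTensor_comp, LinearMap.coe_comp]
    exact (Function.Injective.of_comp_iff (LinearEquiv.lTensor q.asIdeal.ResidueField e).injective _)
  · intro y
    constructor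
    · intro hy
      obtain ⟨x, hx⟩ := (lTensor_exact B hex hπ (e.symm y)).1 hy
      exact ⟨x, by show e ((i.baseChange B) x) = y; rw [show i.baseChange B x = e.symm y from hx]; exact e.apply_symm_apply y⟩
    · rintro ⟨x, rfl⟩
      show π.baseChange B (e.symm (e (i.baseChange B x))) = 0
      rw [e.symm_apply_apply]
      exact (lTensor_exact B hex hπ).apply_apply_eq_zero x

variable (A₀ A) in
/-- The loci of bounded projective dimension in the fibres of a flat family commute with base change. -/
theorem pdLE_flat_baseChange [Algebra.FinitePresentation A₀ B₀] [Module.Flat A₀ B₀] (e : ℕ) :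
    ∀ (M : Type u) [AddCommGroup M] [Module B₀ M] [Module A₀ M] [IsScalarTower A₀ B₀ M]
      [Module.FinitePresentation B₀ M] [Module.Flat A₀ M] (q : PrimeSpectrum B),
      PdLE (EGA4.FibLocRing A B q.asIdeal) e (EGA4.FibLocRing A B q.asIdeal ⊗[B] (B ⊗[B₀] M)) ↔
        PdLE (EGA4.FibLocRing A₀ B₀ (PrimeSpectrum.comap (algebraMap B₀ B) q).asIdeal) e
          (EGA4.FibLocRing A₀ B₀ (PrimeSpectrum.comap (algebraMap B₀ B) q).asIdeal ⊗[B₀] M) := by
  induction e with
  | zero =>
    intro M _ _ _ _ _ _ q
    haveI : Module.FinitePresentation B (B ⊗[B₀] M) := inferInstance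
    haveI : Module.Flat A (B ⊗[B₀] M) := by
      exact Module.Flat.of_linearEquiv (Algebra.IsPushout.cancelBaseChange A₀ A B₀ B M)
    rw [pdLE_zero_iff, pdLE_zero_iff, Codepth5.projective_fibLoc_iff, Codepth5.projective_fibLoc_iff]
    exact freeLocus_baseChange A₀ A q
  | succ e ih =>
    intro M _ _ _ _ _ _ q
    obtain ⟨a, π, hπ⟩ := Module.Finite.exists_fin' B₀ M
    haveI := FlatSyz5.fp_ker (A := A₀) π hπ
    haveI : Module.Flat A₀ (LinearMap.ker π) := FlatSyz5.flat_ker (A := A₀) (π.restrictScalars A₀) hπ
    let i := (LinearMap.ker π).subtype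
    have hinj : Function.Injective (i.baseChange B) :=
      baseChange_injective A₀ A i π Subtype.val_injective (LinearMap.exact_subtype_ker_map π) hπ
    have hexB : Function.Exact (i.baseChange B) (π.baseChange B) := lTensor_exact B (LinearMap.exact_subtype_ker_map π) hπ
    have hπB : Function.Surjective (π.baseChange B) := LinearMap.lTensor_surjective B hπ
    let eK : B ⊗[B₀] LinearMap.ker π ≃ₗ[B] LinearMap.ker (π.baseChange B) :=
      LinearEquiv.ofBijective ((i.baseChange B).codRestrict _ fun x => hexB.apply_apply_eq_zero x)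
        ⟨fun x y hxy => hinj (congrArg Subtype.val hxy), fun z => by
          obtain ⟨x, hx⟩ := (hexB z.1).1 z.2
          exact ⟨x, Subtype.ext hx⟩⟩
    haveI : Module.Flat A (B ⊗[B₀] M) := by
      exact Module.Flat.of_linearEquiv (Algebra.IsPushout.cancelBaseChange A₀ A B₀ B M)
    obtain ⟨e1⟩ := Codepth5.nonempty_ker_fibLoc (A := A) (π.baseChange B) hπB q.asIdeal
    obtain ⟨e0⟩ := Codepth5.nonempty_ker_fibLoc (A := A₀) π hπ (PrimeSpectrum.comap (algebraMap B₀ B) q).asIdeal
    let O := EGA4.FibLocRing A B q.asIdeal
    let eO := (LinearEquiv.baseChange _ O _ _ eK).trans e1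
    rw [pdLE_succ_iff ((π.baseChange B).baseChange O) (LinearMap.lTensor_surjective O hπB),
      pdLE_succ_iff (π.baseChange _) (LinearMap.lTensor_surjective _ hπ)]
    exact ⟨fun h => pdLE_of_equiv e0 ((ih _ q).1 (pdLE_of_equiv eO.symm h)),
      fun h => pdLE_of_equiv eO ((ih _ q).2 (pdLE_of_equiv e0.symm h))⟩

end BaseChange

end Groth.Agent.H1RectCons
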