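import Groth.Agent.H1RectCons.Constr
import Mathlib

/-!
# The loci commute with arbitrary base change
-/

universe u

set_option backward.isDefEq.respectTransparency false
set_option backward.isDefEq.respectTransparency.types false
set_option linter.style.haveILetI false
set_option maxHeartbeats 2000000
set_option synthInstance.maxHeartbeats 200000

open IsLocalRing TensorProduct Topology
open Groth.Agent.RegLoc6

namespace Groth.Agent.H1RectCons

section Square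

variable {A₀ A B₀ B A₁ B₁ A₂ B₂ : Type u} [CommRing A₀] [CommRing A] [CommRing B₀] [CommRing B]
  [Field A₁] [CommRing B₁] [CommRing A₂] [CommRing B₂]
  [Algebra A₀ A] [Algebra A₀ B₀] [Algebra A B] [Algebra B₀ B]
  [Algebra A₀ A₁] [Algebra B₀ B₁] [Algebra A₀ B₁] [Algebra A₁ B₁] [IsScalarTower A₀ B₀ B₁] [IsScalarTower A₀ A₁ B₁]
  [Algebra.IsPushout A₀ A₁ B₀ B₁]
  [Algebra A A₂] [Algebra B B₂] [Algebra A B₂] [Algebra A₂ B₂] [IsScalarTower A B B₂] [IsScalarTower A A₂ B₂]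
  [Algebra.IsPushout A A₂ B B₂]
  [Algebra A₁ A₂] [Algebra B₁ B₂] [Algebra A₁ B₂] [IsScalarTower A₁ B₁ B₂] [IsScalarTower A₁ A₂ B₂]
  [Algebra.IsPushout A₁ A₂ B₁ B₂]
  [Algebra B₀ B₂] [IsScalarTower B₀ B₁ B₂] [IsScalarTower B₀ B B₂]

variable (A₁ B₁) in
include A₁ B₁ in
theorem mem_W_square [Algebra.FinitePresentation A₀ B₀] (h₁ : IsDiv A₀ A₁) (h₂ : IsDiv A A₂) (M₀ : Type u)
    [AddCommGroup M₀] [Module B₀ M₀] [Module.FinitePresentation B₀ M₀] (e : ℕ) (q₂ : PrimeSpectrum B₂) :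
    PrimeSpectrum.comap (algebraMap B B₂) q₂ ∈ W (B := B) A (B ⊗[B₀] M₀) e ↔
      PrimeSpectrum.comap (algebraMap B₀ B) (PrimeSpectrum.comap (algebraMap B B₂) q₂) ∈ W (B := B₀) A₀ M₀ e := by
  haveI : Algebra.FinitePresentation A₁ B₁ :=
    Algebra.FinitePresentation.equiv (Algebra.IsPushout.equiv A₀ A₁ B₀ B₁)
  have hpt : PrimeSpectrum.comap (algebraMap B₀ B) (PrimeSpectrum.comap (algebraMap B B₂) q₂) =
      PrimeSpectrum.comap (algebraMap B₀ B₁) (PrimeSpectrum.comap (algebraMap B₁ B₂) q₂) := by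
    rw [← PrimeSpectrum.comap_comp_apply, ← PrimeSpectrum.comap_comp_apply, ← IsScalarTower.algebraMap_eq,
      ← IsScalarTower.algebraMap_eq]
  rw [hpt, mem_W_transfer h₁ M₀ e (PrimeSpectrum.comap (algebraMap B₁ B₂) q₂), mem_W_transfer h₂ _ e q₂]
  refine (mem_W_congr ((AlgebraTensorModule.cancelBaseChange B₀ B B₂ B₂ M₀).trans
    (AlgebraTensorModule.cancelBaseChange B₀ B₁ B₂ B₂ M₀).symm) e q₂).trans ?_
  exact pdLE_flat_baseChange A₁ A₂ e (B₁ ⊗[B₀] M₀) q₂

end Square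

section BaseChange

variable {A₀ A B₀ B : Type u} [CommRing A₀] [CommRing A] [CommRing B₀] [CommRing B] [Algebra A₀ A] [Algebra A₀ B₀]
  [Algebra A B] [Algebra B₀ B] [Algebra A₀ B] [IsScalarTower A₀ B₀ B] [IsScalarTower A₀ A B]
  [Algebra.IsPushout A₀ A B₀ B]

variable (A₀ A) in
include A₀ in
/-- The loci commute with base change. -/
theorem mem_W_baseChange [Algebra.FinitePresentation A₀ B₀] (M₀ : Type u) [AddCommGroup M₀] [Module B₀ M₀]
    [Module.FinitePresentation B₀ M₀] (e : ℕ) (q : PrimeSpectrum B) :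
    q ∈ W (B := B) A (B ⊗[B₀] M₀) e ↔ PrimeSpectrum.comap (algebraMap B₀ B) q ∈ W (B := B₀) A₀ M₀ e := by
  let p := q.asIdeal.comap (algebraMap A B)
  let p₀ := p.comap (algebraMap A₀ A)
  let k := p.ResidueField
  let k₀ := p₀.ResidueField
  letI : Algebra k₀ k := (Ideal.ResidueField.map p₀ p (algebraMap A₀ A) rfl).toAlgebra
  haveI : IsScalarTower A₀ k₀ k := IsScalarTower.of_algebraMap_eq fun x => by
    rw [RingHom.algebraMap_toAlgebra, Ideal.ResidueField.map_algebraMap, ← IsScalarTower.algebraMap_apply]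
  let B₁ := k₀ ⊗[A₀] B₀
  let B₂ := k ⊗[A] B
  letI : Algebra B₀ B₁ := Algebra.TensorProduct.rightAlgebra
  letI : Algebra B B₂ := Algebra.TensorProduct.rightAlgebra
  letI : Algebra B₀ B₂ := ((algebraMap B B₂).comp (algebraMap B₀ B)).toAlgebra
  haveI : IsScalarTower B₀ B B₂ := IsScalarTower.of_algebraMap_eq fun _ => rfl
  haveI : IsScalarTower A₀ B B₂ := IsScalarTower.of_algebraMap_eq fun x => by
    rw [IsScalarTower.algebraMap_apply A₀ A B, ← IsScalarTower.algebraMap_apply A B B₂,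
      ← IsScalarTower.algebraMap_apply A₀ A B₂]
  haveI : IsScalarTower A₀ B₀ B₂ := IsScalarTower.of_algebraMap_eq fun x => by
    rw [IsScalarTower.algebraMap_apply B₀ B B₂, ← IsScalarTower.algebraMap_apply A₀ B₀ B,
      ← IsScalarTower.algebraMap_apply A₀ B B₂]
  let φ : B₁ →ₐ[A₀] B₂ := Algebra.pushoutDesc B₁
    ((IsScalarTower.toAlgHom A₀ k B₂).comp (IsScalarTower.toAlgHom A₀ k₀ k))
    (IsScalarTower.toAlgHom A₀ B₀ B₂) fun _ _ => mul_comm _ _
  have hφr : ∀ b : B₀, φ (algebraMap B₀ B₁ b) = algebraMap B₀ B₂ b := fun b =>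
    Algebra.pushoutDesc_right (R := A₀) (S := k₀) (R' := B₀) B₁ _ _ _ b
  have hφl : ∀ b : k₀, φ (algebraMap k₀ B₁ b) = algebraMap k B₂ (algebraMap k₀ k b) := fun b =>
    Algebra.pushoutDesc_left (R := A₀) (S := k₀) (R' := B₀) B₁ _ _ _ b
  letI : Algebra B₁ B₂ := φ.toRingHom.toAlgebra
  haveI : IsScalarTower B₀ B₁ B₂ := IsScalarTower.of_algebraMap_eq fun b => by
    exact (hφr b).symm
  haveI : IsScalarTower A₀ B₁ B₂ := IsScalarTower.of_algebraMap_eq fun b => (φ.commutes b).symm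
  haveI : IsScalarTower k₀ k B₂ := IsScalarTower.of_algebraMap_eq fun _ => rfl
  haveI : IsScalarTower k₀ B₁ B₂ := IsScalarTower.of_algebraMap_eq fun b => by
    exact ((IsScalarTower.algebraMap_apply k₀ k B₂ b).trans (hφl b).symm :)
  haveI h₀ : Algebra.IsPushout A₀ k B₀ B₂ :=
    (Algebra.IsPushout.comp_iff A₀ A B₀ B (T := k) (T' := B₂)).2 inferInstance
  haveI : Algebra.IsPushout k₀ k B₁ B₂ :=
    (Algebra.IsPushout.comp_iff A₀ k₀ B₀ B₁ (T := k) (T' := B₂)).1 h₀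
  obtain ⟨q₂, hq₂⟩ := exists_point_over B₂ (isDiv_residueField p) q
    (fun a ha => Ideal.algebraMap_residueField_eq_zero.1 ha)
    (fun s hs hsq => hs.ne_zero (Ideal.algebraMap_residueField_eq_zero.2 hsq))
  rw [← hq₂]
  exact mem_W_square k₀ B₁ (A₂ := k) (isDiv_residueField p₀) (isDiv_residueField p) M₀ e q₂

end BaseChange

end Groth.Agent.H1RectCons
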