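import Groth.Agent.H1RectCons.Invariance
import Groth.Agent.Codepth5.SkPoly
import Groth.Agent.S6284
import Mathlib

/-!
# The rectified depth in the fibres of affine space is constructible
-/

universe u

set_option backward.isDefEq.respectTransparency false
set_option backward.isDefEq.respectTransparency.types false
set_option linter.style.haveILetI false
set_option maxHeartbeats 2000000
set_option synthInstance.maxHeartbeats 200000

open IsLocalRing TensorProduct Topology
open Groth.Agent.RegLoc6 Groth.Agent.Codepth5
open Groth.Agent.FibDim (fib)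

namespace Groth.Agent.H1RectCons

theorem isConstructible_comap_preimage {R S : Type*} [CommRing R] [CommRing S] (g : R →+* S)
    {s : Set (PrimeSpectrum R)} (hs : IsConstructible s) : IsConstructible (PrimeSpectrum.comap g ⁻¹' s) := by
  refine hs.preimage (PrimeSpectrum.continuous_comap g) fun t ht ht' => ?_
  rw [QuasiSeparatedSpace.isRetrocompact_iff_isCompact (ht.preimage (PrimeSpectrum.continuous_comap g))]
  classical
  obtain ⟨T, hT⟩ := PrimeSpectrum.isCompact_isOpen_iff.1 ⟨ht'.isCompact, ht⟩
  refine (PrimeSpectrum.isCompact_isOpen_iff.2 ⟨T.image g, ?_⟩).1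
  rw [← hT, Set.preimage_compl, PrimeSpectrum.preimage_comap_zeroLocus, Finset.coe_image]

attribute [local instance] MvPolynomial.algebraMvPolynomial

variable {A : Type u} [CommRing A] {N : ℕ}

/-- A finitely presented module on affine space comes from a Noetherian base. -/
theorem exists_model (M : Type u) [AddCommGroup M] [Module (MvPolynomial (Fin N) A) M]
    [Module.FinitePresentation (MvPolynomial (Fin N) A) M] :
    ∃ (A₀ : Subalgebra ℤ A) (_ : IsNoetherianRing A₀) (M₀ : Type u) (_ : AddCommGroup M₀)
      (_ : Module (MvPolynomial (Fin N) A₀) M₀) (_ : Module.FinitePresentation (MvPolynomial (Fin N) A₀) M₀),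
      Nonempty (MvPolynomial (Fin N) A ⊗[MvPolynomial (Fin N) A₀] M₀ ≃ₗ[MvPolynomial (Fin N) A] M) := by
  classical
  obtain ⟨n, m, f, g, hf, hgf⟩ := Module.FinitePresentation.exists_fin' (MvPolynomial (Fin N) A) M
  let S : Finset A := Finset.univ.biUnion fun j : Fin m => Finset.univ.biUnion fun i : Fin n =>
    (g (Pi.single j 1) i).coeffs
  let A₀ := Algebra.adjoin ℤ (S : Set A)
  haveI : Algebra.FiniteType ℤ A₀ :=
    (Subalgebra.fg_iff_finiteType A₀).1 ⟨S, rfl⟩
  haveI : IsNoetherianRing A₀ := Algebra.FiniteType.isNoetherianRing ℤ A₀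
  have hlift : ∀ j i, ∃ c : MvPolynomial (Fin N) A₀,
      algebraMap (MvPolynomial (Fin N) A₀) (MvPolynomial (Fin N) A) c = g (Pi.single j 1) i := fun j i => by
    rw [MvPolynomial.algebraMap_def]
    refine Set.mem_range.1 (MvPolynomial.mem_range_map_iff_coeffs_subset.2 fun a ha => ?_)
    exact ⟨⟨a, Algebra.subset_adjoin (Finset.mem_biUnion.2 ⟨j, Finset.mem_univ _,
      Finset.mem_biUnion.2 ⟨i, Finset.mem_univ _, ha⟩⟩)⟩, rfl⟩
  choose c hc using hlift
  let P₀ := MvPolynomial (Fin N) A₀
  let P := MvPolynomial (Fin N) A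
  let g₀ : (Fin m → P₀) →ₗ[P₀] (Fin n → P₀) := Fintype.linearCombination P₀ fun j i => c j i
  let π₀ := (LinearMap.range g₀).mkQ
  haveI : Module.FinitePresentation P₀ ((Fin n → P₀) ⧸ LinearMap.range g₀) :=
    Module.finitePresentation_of_surjective π₀ (Submodule.mkQ_surjective _) (by
      rw [Submodule.ker_mkQ]
      exact Module.Finite.fg_top.map g₀ |> fun h => by rwa [Submodule.map_top] at h)
  refine ⟨A₀, ‹_›, _, inferInstance, inferInstance, ‹Module.FinitePresentation P₀ _›, ⟨?_⟩⟩
  let em := TensorProduct.piScalarRight P₀ P P (Fin m)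
  let en := TensorProduct.piScalarRight P₀ P P (Fin n)
  have hg : ∀ x, en (g₀.baseChange P x) = g (em x) := by
    intro x
    induction x using TensorProduct.induction_on with
    | zero => simp
    | add a b ha hb => simp only [map_add, ha, hb]
    | tmul r v =>
      funext i
      rw [LinearMap.baseChange_tmul, TensorProduct.piScalarRight_apply, TensorProduct.piScalarRightHom_tmul,
        TensorProduct.piScalarRight_apply, TensorProduct.piScalarRightHom_tmul,
        pi_eq_sum_univ' (fun j => v j • r), map_sum, Finset.sum_apply]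
      simp only [map_smul, Pi.smul_apply, g₀, Fintype.linearCombination_apply, Finset.sum_apply, ← hc]
      rw [Finset.sum_smul]
      refine Finset.sum_congr rfl fun j _ => ?_
      rw [smul_eq_mul, smul_eq_mul, Algebra.smul_def, Algebra.smul_def, map_mul]
      ring
  let φ := π₀.baseChange P ∘ₗ en.symm.toLinearMap
  have hφ : Function.Surjective φ :=
    (LinearMap.lTensor_surjective P (Submodule.mkQ_surjective _)).comp en.symm.surjective
  have hker : LinearMap.ker φ = LinearMap.ker f := by
    ext y
    have hex : Function.Exact (g₀.baseChange P) (π₀.baseChange P) :=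
      lTensor_exact P (LinearMap.exact_map_mkQ_range g₀) (Submodule.mkQ_surjective _)
    show π₀.baseChange P (en.symm y) = 0 ↔ f y = 0
    rw [hex _, hgf y]
    constructor
    · rintro ⟨x, hx⟩
      exact ⟨em x, by rw [← hg, hx, en.apply_symm_apply]⟩
    · rintro ⟨x, rfl⟩
      exact ⟨em.symm x, en.injective (by rw [hg, en.apply_symm_apply, em.apply_symm_apply])⟩
  exact ((φ.quotKerEquivOfSurjective hφ).symm ≪≫ₗ Submodule.quotEquivOfEq _ _ hker) ≪≫ₗ
    f.quotKerEquivOfSurjective hf

theorem isConstructible_W_of_model {A₀ : Type u} [CommRing A₀] [IsNoetherianRing A₀] [Algebra A₀ A] (M₀ : Type u)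
    [AddCommGroup M₀] [Module (MvPolynomial (Fin N) A₀) M₀] [Module.FinitePresentation (MvPolynomial (Fin N) A₀) M₀]
    (M : Type u) [AddCommGroup M] [Module (MvPolynomial (Fin N) A) M]
    (ε : MvPolynomial (Fin N) A ⊗[MvPolynomial (Fin N) A₀] M₀ ≃ₗ[MvPolynomial (Fin N) A] M) (e : ℕ) :
    IsConstructible (W (B := MvPolynomial (Fin N) A) A M e) := by
  haveI : Algebra.FiniteType A₀ (MvPolynomial (Fin N) A₀) := inferInstance
  have h := isConstructible_comap_preimage (algebraMap (MvPolynomial (Fin N) A₀) (MvPolynomial (Fin N) A))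
    (isConstructible_W (A := A₀) (B := MvPolynomial (Fin N) A₀) M₀ e)
  have heq : W (B := MvPolynomial (Fin N) A) A M e = PrimeSpectrum.comap
      (algebraMap (MvPolynomial (Fin N) A₀) (MvPolynomial (Fin N) A)) ⁻¹' W (B := MvPolynomial (Fin N) A₀) A₀ M₀ e :=
    Set.ext fun q => (mem_W_congr ε e q).symm.trans (mem_W_baseChange A₀ A M₀ e q)
  rw [heq]
  exact h

variable (M : Type u) [AddCommGroup M] [Module (MvPolynomial (Fin N) A) M]
  [Module.FinitePresentation (MvPolynomial (Fin N) A) M]

/-- The loci of bounded projective dimension in the fibres of affine space are constructible. -/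
theorem isConstructible_W_poly (e : ℕ) : IsConstructible (W (B := MvPolynomial (Fin N) A) A M e) := by
  obtain ⟨A₀, _, M₀, _, _, _, ⟨ε⟩⟩ := exists_model (A := A) (N := N) M
  exact isConstructible_W_of_model (A₀ := A₀) M₀ M ε e

/-- The support of a finitely presented module on affine space is constructible. -/
theorem isConstructible_support_compl :
    IsConstructible (Module.support (MvPolynomial (Fin N) A) M)ᶜ := by
  obtain ⟨A₀, _, M₀, _, _, _, ⟨ε⟩⟩ := exists_model (A := A) (N := N) M
  rw [← ε.support_eq, S6284.result M₀, ← Set.preimage_compl]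
  exact isConstructible_comap_preimage _
    (((TopologicalSpace.NoetherianSpace.isCompact _).isRetrocompact Module.isClosed_support.isOpen_compl).isConstructible
      Module.isClosed_support.isOpen_compl)

theorem rectGE_iff (n : ℕ) (q : PrimeSpectrum (MvPolynomial (Fin N) A)) :
    RectGE A M n q ↔ q ∉ Module.support (MvPolynomial (Fin N) A) M ∨
      (n ≤ N ∧ q ∈ W (B := MvPolynomial (Fin N) A) A M (N - n)) := by
  rw [RectGE]
  rcases exists_invariants M q with ⟨hns, hdd, -⟩ | ⟨d, D, a, haD, hDd, hdN, hs, hdd, hh, hW, -⟩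
  · refine iff_of_true ?_ (Or.inl hns)
    rw [hdd, top_add]
    exact le_top
  · have hc := height_add_coheight_fib _ (⟨q, rfl⟩ : ↥(fib (B := MvPolynomial (Fin N) A)
      (PrimeSpectrum.comap (algebraMap A (MvPolynomial (Fin N) A)) q)))
    rw [hh] at hc
    rw [hdd]
    show _ ↔ _ ∨ (n ≤ N ∧ PdLE _ _ _)
    rw [hW]
    dsimp only
    generalize Order.coheight (⟨q, rfl⟩ : ↥(fib (B := MvPolynomial (Fin N) A)
      (PrimeSpectrum.comap (algebraMap A (MvPolynomial (Fin N) A)) q))) = c at hc
    induction c using ENat.recTopCoe with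
    | top => simp at hc
    | coe c =>
      have hc' : d + c = N := by exact_mod_cast hc
      constructor
      · intro h
        have h' : n ≤ a + c := by exact_mod_cast h
        exact Or.inr ⟨by omega, by omega⟩
      · rintro (h | ⟨h1, h2⟩)
        · exact absurd hs h
        · exact_mod_cast (show n ≤ a + c by omega)

/-- The loci of bounded rectified depth in the fibres of affine space are constructible. -/
theorem isConstructible_rectGE_poly (n : ℕ) :
    IsConstructible {q : PrimeSpectrum (MvPolynomial (Fin N) A) | RectGE A M n q} := by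
  by_cases hn : n ≤ N
  · convert (isConstructible_support_compl (A := A) (N := N) M).union (isConstructible_W_poly (A := A) (N := N) M (N - n)) using 1
    ext q
    exact (rectGE_iff M n q).trans (or_congr Iff.rfl (and_iff_right hn))
  · convert isConstructible_support_compl (A := A) (N := N) M using 1
    ext q
    exact (rectGE_iff M n q).trans (or_iff_left fun h => hn h.1)

end Groth.Agent.H1RectCons
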