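import Groth.Agent.H1RectCons.Poly
import Groth.Agent.Codepth5.Sk
import Groth.Prelude.Def_CInt
import Mathlib

/-!
# The rectified depth of the fibres is locally constructible
-/

universe u

set_option backward.isDefEq.respectTransparency false
set_option backward.isDefEq.respectTransparency.types false
set_option linter.style.haveILetI false
set_option maxHeartbeats 2000000
set_option synthInstance.maxHeartbeats 200000

open AlgebraicGeometry CategoryTheory IsLocalRing TensorProduct Topology
open Groth.Agent.Codepth5 Set.Notation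
open Groth.Agent.FibDim (fib)

namespace Groth.Agent.H1RectCons

section Affine

variable {A B : Type u} [CommRing A] [CommRing B] [Algebra A B] [Algebra.FinitePresentation A B]
  (M : Type u) [AddCommGroup M] [Module B M] [Module.FinitePresentation B M]

variable (A) in
theorem exists_bound_rectGE :
    ∃ N : ℕ, (∀ n, IsConstructible {q : PrimeSpectrum B | RectGE A M n q}) ∧
      ∀ (n : ℕ) (q : PrimeSpectrum B), RectGE A M (N + 1) q → RectGE A M n q := by
  obtain ⟨N, f, hf, hker⟩ := Algebra.FinitePresentation.out (R := A) (A := B)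
  letI : Algebra (MvPolynomial (Fin N) A) B := f.toRingHom.toAlgebra
  haveI : IsScalarTower A (MvPolynomial (Fin N) A) B :=
    IsScalarTower.of_algebraMap_eq fun a => (f.commutes a).symm
  letI : Module (MvPolynomial (Fin N) A) M := Module.compHom M f.toRingHom
  haveI : IsScalarTower (MvPolynomial (Fin N) A) B M := IsScalarTower.of_algebraMap_smul fun _ _ => rfl
  haveI : Module.FinitePresentation (MvPolynomial (Fin N) A) B :=
    Module.finitePresentation_of_surjective (Algebra.linearMap (MvPolynomial (Fin N) A) B) hf (by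
      rwa [show LinearMap.ker (Algebra.linearMap (MvPolynomial (Fin N) A) B) = RingHom.ker f.toRingHom from
        Submodule.ext fun _ => Iff.rfl])
  haveI := Module.FinitePresentation.trans (MvPolynomial (Fin N) A) M B
  have hq : ∀ n q, RectGE A M n q ↔
      RectGE A M n (PrimeSpectrum.comap (algebraMap (MvPolynomial (Fin N) A) B) q) := fun n q => by
    rw [RectGE, RectGE, transfer hf q,
      show dd (Localization.AtPrime (PrimeSpectrum.comap (algebraMap (MvPolynomial (Fin N) A) B) q).asIdeal)
        (EGA4.FibLocMod A (MvPolynomial (Fin N) A)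
          (PrimeSpectrum.comap (algebraMap (MvPolynomial (Fin N) A) B) q).asIdeal M) =
        dd (Localization.AtPrime q.asIdeal) (EGA4.FibLocMod A B q.asIdeal M) from dd_surjective hf M q]
  refine ⟨N, fun n => ?_, fun n q h => ?_⟩
  · rw [show {q : PrimeSpectrum B | RectGE A M n q} =
      PrimeSpectrum.comap (algebraMap (MvPolynomial (Fin N) A) B) ⁻¹' {q | RectGE A M n q} from
        Set.ext fun q => hq n q]
    exact isConstructible_comap_preimage _ (isConstructible_rectGE_poly (A := A) (N := N) M n)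
  · rw [hq, rectGE_iff] at h
    rw [hq, rectGE_iff]
    exact h.elim Or.inl fun h => absurd h.1 (by omega)

end Affine

variable {X S : Scheme.{u}} (f : X ⟶ S)

/-- The rectified depth at a point of its fibre. -/
noncomputable def rdepth (F : X.Modules) (x : X) : WithBot ℕ∞ :=
  ((CInt.fiberDepth f F x : ℕ∞) : WithBot ℕ∞) +
    topologicalKrullDim ↥(closure ({f.asFiber x} : Set ↥(f.fiber (f.base x))))

theorem le_rdepth_iff [LocallyOfFinitePresentation f] (F : X.Modules) (hF : CohB1.IsFP F) {V : S.Opens}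
    (hV : IsAffineOpen V) {U : X.Opens} (hU : IsAffineOpen U) (hUV : U ≤ f ⁻¹ᵁ V) (z : X) (hz : z ∈ U) (n : ℕ) :
    letI := (f.appLE V U hUV).hom.toAlgebra
    (n : WithBot ℕ∞) ≤ rdepth f F z ↔ RectGE Γ(S, V) Γ(F, U) n (hU.primeIdealOf ⟨z, hz⟩) := by
  letI : Algebra Γ(S, V) Γ(X, U) := (f.appLE V U hUV).hom.toAlgebra
  have hM := QCoh.isQCoh_of_isFP hF
  letI := QCoh.stalkModule F hz
  haveI := QCoh.isLocalizedModule_germLin hM hU hz
  have h := congrArg Prod.snd ((fibre_dd_eq f F z _ _ (f.fiberι_asFiber z)).trans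
    (dd_chart_eq f hU hV hUV hz (fun _ _ => rfl) (QCoh.germLin F hz)))
  have hd : topologicalKrullDim ↥(closure ({f.asFiber z} : Set ↥(f.fiber (f.base z)))) =
      ((FibDim.rd f z : ℕ∞) : WithBot ℕ∞) :=
    VarDim.topologicalKrullDim_closure_singleton (k := S.residueField (f z)) (f.fiberToSpecResidueField (f z))
      (f.asFiber z)
  have hc := coheight_eq_rd f hU hV hUV (hU.primeIdealOf ⟨z, hz⟩)
  rw [hU.fromSpec_primeIdealOf ⟨z, hz⟩] at hc
  rw [rdepth, hd, ← WithBot.coe_add, ← WithBot.coe_natCast, WithBot.coe_le_coe, RectGE, hc]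
  exact Iff.of_eq (congrArg (fun a : ℕ∞ => (n : ℕ∞) ≤ a + _) h)

theorem rdepth_eq_coe (F : X.Modules) [LocallyOfFinitePresentation f] (x : X) :
    ∃ a : ℕ∞, rdepth f F x = (a : WithBot ℕ∞) := by
  have hd : topologicalKrullDim ↥(closure ({f.asFiber x} : Set ↥(f.fiber (f.base x)))) =
      ((FibDim.rd f x : ℕ∞) : WithBot ℕ∞) :=
    VarDim.topologicalKrullDim_closure_singleton (k := S.residueField (f x)) (f.fiberToSpecResidueField (f x))
      (f.asFiber x)
  exact ⟨_, by rw [rdepth, hd, ← WithBot.coe_add]⟩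

/-- The level sets of the rectified depth of the fibres are locally constructible. -/
theorem isLocallyConstructible_rdepth_eq [LocallyOfFinitePresentation f] (F : X.Modules) (hF : CohB1.IsFP F) (n : ℕ∞) :
    IsLocallyConstructible {x : X | rdepth f F x = (n : WithBot ℕ∞)} := by
  intro x
  obtain ⟨V, hV, hxV, -⟩ := exists_isAffineOpen_mem_and_subset (U := (⊤ : S.Opens)) (x := f x) trivial
  obtain ⟨U, hU, hxU, hUV⟩ := exists_isAffineOpen_mem_and_subset (U := f ⁻¹ᵁ V) (x := x) hxV
  letI : Algebra Γ(S, V) Γ(X, U) := (f.appLE V U hUV).hom.toAlgebra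
  haveI : Algebra.FinitePresentation Γ(S, V) Γ(X, U) := f.finitePresentation_appLE hV hU hUV
  haveI := QCoh.finitePresentation_of_isFP hF hU
  obtain ⟨N, hcons, hN⟩ := exists_bound_rectGE Γ(S, V) (B := Γ(X, U)) Γ(F, U)
  let R : ℕ → Set (PrimeSpectrum Γ(X, U)) := fun m => {q | RectGE Γ(S, V) Γ(F, U) m q}
  obtain ⟨C, hC, hCeq⟩ : ∃ C : Set (PrimeSpectrum Γ(X, U)), IsConstructible C ∧
      ∀ z (hz : z ∈ U), rdepth f F z = (n : WithBot ℕ∞) ↔ hU.primeIdealOf ⟨z, hz⟩ ∈ C := by
    induction n using ENat.recTopCoe with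
    | top =>
      refine ⟨R (N + 1), hcons _, fun z hz => ?_⟩
      obtain ⟨a, ha⟩ := rdepth_eq_coe f F z
      show _ ↔ RectGE _ _ _ _
      constructor
      · intro h
        rw [← le_rdepth_iff f F hF hV hU hUV z hz, h]
        exact le_top
      · intro h
        have h' : ∀ m : ℕ, (m : WithBot ℕ∞) ≤ rdepth f F z := fun m =>
          (le_rdepth_iff f F hF hV hU hUV z hz m).2 (hN m _ h)
        rw [ha] at h' ⊢
        exact congrArg _ (ENat.eq_top_iff_forall_ge.2 fun m => WithBot.coe_le_coe.1 (h' m))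
    | coe m =>
      refine ⟨R m ∩ (R (m + 1))ᶜ, (hcons _).inter (hcons _).compl, fun z hz => ?_⟩
      show _ ↔ RectGE _ _ _ _ ∧ ¬ RectGE _ _ _ _
      rw [← le_rdepth_iff f F hF hV hU hUV z hz, ← le_rdepth_iff f F hF hV hU hUV z hz]
      obtain ⟨a, ha⟩ := rdepth_eq_coe f F z
      rw [ha]
      induction a using ENat.recTopCoe with
      | top =>
        exact iff_of_false (fun h => (ENat.natCast_lt_top m).ne (WithBot.coe_injective h).symm) fun h => h.2 le_top
      | coe a =>
        norm_cast
        constructor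
        · intro h
          have h' : a = m := by exact_mod_cast h
          exact ⟨by exact_mod_cast h'.ge, by exact_mod_cast (show ¬ m + 1 ≤ a by omega)⟩
        · rintro ⟨h1, h2⟩
          have h1' : m ≤ a := by exact_mod_cast h1
          have h2' : ¬ m + 1 ≤ a := by exact_mod_cast h2
          exact_mod_cast (show a = m by omega)
  refine ⟨U, U.2.mem_nhds hxU, U.2, ?_⟩
  have hemb : IsOpenEmbedding (fun z : U => hU.primeIdealOf z) := hU.isoSpec.hom.isOpenEmbedding
  have hset : ((U : Set X) ↓∩ {x : X | rdepth f F x = (n : WithBot ℕ∞)}) = (fun z : U => hU.primeIdealOf z) ⁻¹' C :=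
    Set.ext fun z => hCeq z.1 z.2
  rw [hset]
  exact hC.preimage_of_isOpenEmbedding hemb

end Groth.Agent.H1RectCons
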